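import Mathlib.RingTheory.TensorProduct.Maps
import Mathlib.RingTheory.Ideal.Maximal
import Mathlib.RingTheory.Spectrum.Prime.Basic
import Mathlib

/-!
A closed subset of `Spec (B ⊗ C)` missing the fibre over a prime of `C` is separated from it after
replacing `C` by a polynomial ring in finitely many variables.
-/

universe u

open TensorProduct

namespace Groth.Agent.ASpSepCl

variable {A B C : Type u} [CommRing A] [CommRing B] [CommRing C] [Algebra A B] [Algebra A C]

theorem exists_list_of_mem_map (q : Ideal C) {z : B ⊗[A] C}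
    (hz : z ∈ q.map (Algebra.TensorProduct.includeRight : C →ₐ[A] B ⊗[A] C)) :
    ∃ l : List (B × C), (∀ x ∈ l, x.2 ∈ q) ∧ z = (l.map fun x => x.1 ⊗ₜ[A] x.2).sum := by
  induction hz using Submodule.span_induction with
  | mem x hx =>
    obtain ⟨c, hc, rfl⟩ := hx
    exact ⟨[(1, c)], by simpa using hc, by simp⟩
  | zero => exact ⟨[], by simp, by simp⟩
  | add x y _ _ hx hy =>
    obtain ⟨l, hl, rfl⟩ := hx
    obtain ⟨m, hm, rfl⟩ := hy
    exact ⟨l ++ m, by simp only [List.mem_append]; rintro x (h | h); exacts [hl x h, hm x h], by simp⟩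
  | smul r x _ hx =>
    obtain ⟨l, hl, rfl⟩ := hx
    induction r using TensorProduct.induction_on with
    | zero => exact ⟨[], by simp, by simp⟩
    | tmul b c =>
      refine ⟨l.map fun x => (b * x.1, c * x.2), ?_, ?_⟩
      · simp only [List.mem_map]
        rintro _ ⟨x, hx, rfl⟩
        exact q.mul_mem_left _ (hl x hx)
      · rw [smul_eq_mul, ← List.sum_map_mul_left, List.map_map]
        congr 1
        exact List.map_congr_left fun x _ => Algebra.TensorProduct.tmul_mul_tmul _ _ _ _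
    | add r r' hr hr' =>
      obtain ⟨m, hm, e⟩ := hr
      obtain ⟨m', hm', e'⟩ := hr'
      exact ⟨m ++ m', by simp only [List.mem_append]; rintro x (h | h); exacts [hm x h, hm' x h],
        by rw [add_smul, e, e']; simp⟩

theorem exists_witness (J : Ideal (B ⊗[A] C)) (q : Ideal C) [q.IsPrime]
    (h : ∀ p : Ideal (B ⊗[A] C), p.IsPrime → J ≤ p →
      p.comap (Algebra.TensorProduct.includeRight : C →ₐ[A] B ⊗[A] C) ≠ q) :
    ∃ (n : ℕ) (ψ : MvPolynomial (Option (Fin n)) A →ₐ[A] C)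
      (j : B ⊗[A] MvPolynomial (Option (Fin n)) A),
      Algebra.TensorProduct.map (AlgHom.id A B) ψ j ∈ J ∧
      ∀ p : Ideal (B ⊗[A] MvPolynomial (Option (Fin n)) A), p.IsPrime →
        p.comap (Algebra.TensorProduct.includeRight :
          MvPolynomial (Option (Fin n)) A →ₐ[A] B ⊗[A] MvPolynomial (Option (Fin n)) A) = q.comap ψ → j ∉ p := by
  let iR : C →ₐ[A] B ⊗[A] C := Algebra.TensorProduct.includeRight
  obtain ⟨f, hf, hfI⟩ : ∃ f, f ∉ q ∧ iR f ∈ J ⊔ q.map iR := by
    by_contra hne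
    push_neg at hne
    have hdis : Disjoint ((J ⊔ q.map iR : Ideal (B ⊗[A] C)) : Set (B ⊗[A] C)) (q.primeCompl.map iR) := by
      rw [Set.disjoint_left]
      rintro _ hx ⟨f, hf, rfl⟩
      exact hne f hf hx
    obtain ⟨p, hp, hle, hd⟩ := Ideal.exists_le_prime_disjoint _ _ hdis
    refine h p hp (le_sup_left.trans hle) (le_antisymm (fun c hc => ?_) ?_)
    · by_contra hcq
      exact Set.disjoint_left.1 hd hc ⟨c, hcq, rfl⟩
    · exact Ideal.map_le_iff_le_comap.1 (le_sup_right.trans hle)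
  obtain ⟨jJ, hjJ, z, hz, e⟩ := Submodule.mem_sup.1 hfI
  obtain ⟨l, hl, rfl⟩ := exists_list_of_mem_map q hz
  let ψ : MvPolynomial (Option (Fin l.length)) A →ₐ[A] C :=
    MvPolynomial.aeval fun o => o.elim f fun i => (l.get i).2
  refine ⟨l.length, ψ, 1 ⊗ₜ MvPolynomial.X none - ∑ i, (l.get i).1 ⊗ₜ MvPolynomial.X (some i), ?_, ?_⟩
  · have : Algebra.TensorProduct.map (AlgHom.id A B) ψ
        (1 ⊗ₜ MvPolynomial.X none - ∑ i, (l.get i).1 ⊗ₜ MvPolynomial.X (some i)) = jJ := by
      rw [map_sub, map_sum]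
      simp only [Algebra.TensorProduct.map_tmul, AlgHom.coe_id, id_eq, ψ, MvPolynomial.aeval_X, Option.elim_none,
        Option.elim_some]
      rw [sub_eq_iff_eq_add]
      refine e.symm.trans ?_
      congr 1
      exact (congrArg List.sum (List.ofFn_getElem_eq_map l fun x => x.1 ⊗ₜ[A] x.2).symm).trans List.sum_ofFn
    rwa [this]
  · intro p hp hc hj
    have hX : ∀ m, (1 : B) ⊗ₜ[A] MvPolynomial.X m ∈ p ↔ ψ (MvPolynomial.X m) ∈ q := fun m =>
      Ideal.ext_iff.1 hc (MvPolynomial.X m)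
    refine hf ?_
    have h1 : (1 : B) ⊗ₜ[A] MvPolynomial.X (none : Option (Fin l.length)) ∈ p := by
      refine (Submodule.sub_mem_iff_left p (Ideal.sum_mem _ fun i _ => ?_)).1 hj
      have h2 : (1 : B) ⊗ₜ[A] MvPolynomial.X (some i) ∈ p :=
        (hX _).2 (by simpa [ψ] using hl _ (l.get_mem i))
      simpa using p.mul_mem_left ((l.get i).1 ⊗ₜ[A] (1 : MvPolynomial (Option (Fin l.length)) A)) h2
    simpa [ψ] using (hX none).1 h1

end Groth.Agent.ASpSepCl
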